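import Groth.Agent.SGA3.K291.WordRetr
import Groth.Agent.Sga3.H814.CentralK
import Groth.Agent.Sga3B.RG.UnipRoot
import Groth.Agent.Sga3B.RG.BrRed
import Groth.Agent.SGA3.K203.CommRigid

/-!
# The centralizer of a finite group in a connected unipotent group

`G = Spec A` affine of finite type over a perfect field `k`, `U = V(J)` a smooth connected unipotent subgroup, `Γ` a
finite subgroup of `G(K)` (`K` an algebraic closure of `k`) of order prime to the characteristic, stable under the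
automorphisms of `K/k` and normalizing `U`.  Then the centralizer of `Γ` in `U` is a smooth connected subgroup,
defined over `k`.
-/

set_option autoImplicit false

universe u

open WithConv TensorProduct Coalgebra HopfRep
open Groth.Agent.Sga3B.RG
open Groth.Agent.Agf.H612.GalSub Groth.Agent.Agf.H612.GalPts Groth.Agent.Agf.H612.GalQuot
open Groth.Agent.Sga3B.Par.CochBC (res)

namespace K291.CentFin

section Pts

variable {K : Type u} [Field K] {A : Type u} [CommRing A] [HopfAlgebra K A]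

lemma isReg_list {ι : Type*} (l : List ι) (f : ι → Pt K A → Pt K A) (hf : ∀ i ∈ l, IsReg (f i)) :
    IsReg (fun g => (l.map fun i => f i g).prod) := by
  induction l with
  | nil => exact isReg_const 1
  | cons i l ih =>
    simp only [List.map_cons, List.prod_cons]
    exact (hf i List.mem_cons_self).mul (ih fun j hj => hf j (List.mem_cons_of_mem _ hj))

lemma IsReg.pow' {f : Pt K A → Pt K A} (hf : IsReg f) (n : ℕ) : IsReg (fun g => f g ^ n) := by
  induction n with
  | zero =>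
    simp only [pow_zero]
    exact isReg_const 1
  | succ n ih =>
    simp only [pow_succ]
    exact ih.mul hf

lemma isReg_step {Γ : Subgroup (Pt K A)} [Fintype Γ] (m : ℕ) :
    IsReg (WordRetr.step (fun (γ : Γ) (x : Pt K A) => (γ : Pt K A) * x * (γ : Pt K A)⁻¹) m) := by
  refine isReg_id.mul (IsReg.pow' ?_ m)
  exact isReg_list _ (fun (γ : Γ) (x : Pt K A) => x⁻¹ * ((γ : Pt K A) * x * (γ : Pt K A)⁻¹))
    (fun γ _ => isReg_inv.mul (isReg_conj _))

lemma isReg_iterate {f : Pt K A → Pt K A} (hf : IsReg f) (c : ℕ) : IsReg (f^[c]) := by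
  induction c with
  | zero => exact isReg_id
  | succ c ih =>
    rw [Function.iterate_succ]
    exact ih.comp hf

/-- The centralizer of `Γ` in `U`. -/
noncomputable def cen (U Γ : Subgroup (Pt K A)) : Subgroup (Pt K A) :=
  U ⊓ Subgroup.centralizer (Γ : Set (Pt K A))

lemma mem_cen {U Γ : Subgroup (Pt K A)} {u : Pt K A} :
    u ∈ cen U Γ ↔ u ∈ U ∧ ∀ γ ∈ Γ, γ * u = u * γ := by
  rw [cen, Subgroup.mem_inf, Subgroup.mem_centralizer_iff]
  rfl

variable [IsAlgClosed K] [Algebra.FiniteType K A]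

/-- **Characteristic `p`.** -/
theorem isConn_cen_of_exponent {U Γ : Subgroup (Pt K A)} [Finite Γ] (hU : IsConn (U : Set (Pt K A)))
    [Group.IsNilpotent U] (q : ℕ) (hq : ∀ u ∈ U, u ^ q = 1) (hcop : (Nat.card Γ).Coprime q)
    (hN : ∀ γ ∈ Γ, ∀ u ∈ U, γ * u * γ⁻¹ ∈ U) : IsConn (cen U Γ : Set (Pt K A)) := by
  classical
  have : Fintype Γ := Fintype.ofFinite Γ
  have hle : Γ ≤ Subgroup.normalizer (U : Set (Pt K A)) := by
    intro γ hγ
    rw [Subgroup.mem_normalizer_iff]
    intro u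
    constructor
    · exact hN γ hγ u
    · intro h
      have h1 := hN γ⁻¹ (inv_mem hγ) _ h
      have h2 : γ⁻¹ * (γ * u * γ⁻¹) * γ⁻¹⁻¹ = u := by group
      rwa [h2] at h1
  let α : Γ →* MulAut U := (Subgroup.normalizerMonoidHom U).comp (Subgroup.inclusion hle)
  have hα : ∀ (γ : Γ) (u : U), ((α γ u : U) : Pt K A) = (γ : Pt K A) * u * (γ : Pt K A)⁻¹ :=
    fun _ _ => rfl
  obtain ⟨m, hm⟩ : ∃ m, Nat.card Γ * m ≡ 1 [MOD q] := by
    rcases lt_or_ge 1 q with h | h
    · obtain ⟨m, hm⟩ := Nat.exists_mul_mod_eq_one_of_coprime hcop h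
      exact ⟨m, by rw [Nat.ModEq, hm.2, Nat.mod_eq_of_lt h]⟩
    · rcases Nat.eq_zero_or_pos q with rfl | h0
      · refine ⟨1, ?_⟩
        rw [Nat.coprime_zero_right] at hcop
        rw [hcop]
      · have : q = 1 := by omega
        subst this
        exact ⟨0, Nat.modEq_one⟩
  obtain ⟨c, hc⟩ := WordRetr.exists_iterate α m q
    (fun x => Subtype.ext (hq x x.2)) (by rw [← Nat.card_eq_fintype_card]; exact hm)
  set F : Pt K A → Pt K A := (WordRetr.step
    (fun (γ : Γ) (x : Pt K A) => (γ : Pt K A) * x * (γ : Pt K A)⁻¹) m)^[c] with hF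
  have hstep : ∀ x : U, ((WordRetr.step (fun γ => α γ) m x : U) : Pt K A) =
      WordRetr.step (fun (γ : Γ) (x : Pt K A) => (γ : Pt K A) * x * (γ : Pt K A)⁻¹) m x := by
    intro x
    rw [WordRetr.step, WordRetr.step, Subgroup.coe_mul, SubmonoidClass.coe_pow]
    congr 2
    have h1 : ((List.map (fun γ : Γ => x⁻¹ * (α γ) x) Finset.univ.toList).prod : U) =
      ((List.map (fun γ : Γ => x⁻¹ * (α γ) x) Finset.univ.toList).prod : U) := rfl
    have h2 := map_list_prod U.subtype (List.map (fun γ : Γ => x⁻¹ * (α γ) x) Finset.univ.toList)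
    rw [List.map_map] at h2
    exact h2
  have hiter : ∀ (i : ℕ) (x : U), (((WordRetr.step (fun γ => α γ) m)^[i] x : U) : Pt K A) =
      (WordRetr.step (fun (γ : Γ) (x : Pt K A) => (γ : Pt K A) * x * (γ : Pt K A)⁻¹) m)^[i] x := by
    intro i
    induction i with
    | zero => intro x; rfl
    | succ i ih =>
      intro x
      rw [Function.iterate_succ_apply, Function.iterate_succ_apply, ih, hstep]
  have himg : (cen U Γ : Set (Pt K A)) = F '' (U : Set (Pt K A)) := by
    ext u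
    constructor
    · intro hu
      have hu' := mem_cen.1 hu
      refine ⟨u, hu'.1, ?_⟩
      apply WordRetr.iterate_of_fixed
      intro γ
      rw [hu'.2 γ γ.2, mul_inv_cancel_right]
    · rintro ⟨x, hx, rfl⟩
      apply mem_cen.2
      have h1 := hiter c ⟨x, hx⟩
      rw [hF]
      refine ⟨?_, fun γ hγ => ?_⟩
      · rw [← h1]
        exact Subtype.property _
      · have h2 := congrArg (Subtype.val) (hc ⟨x, hx⟩ ⟨γ, hγ⟩)
        rw [hα, h1] at h2
        exact mul_inv_eq_iff_eq_mul.1 h2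
  rw [himg]
  exact hU.image_reg (isReg_iterate (isReg_step m) c)

omit [IsAlgClosed K] [Algebra.FiniteType K A] in
lemma isCl_cen {U Γ : Subgroup (Pt K A)} (hU : IsCl (U : Set (Pt K A))) :
    IsCl (cen U Γ : Set (Pt K A)) :=
  hU.inter (isCl_centralizer _)

/-- **Characteristic `0`.** -/
theorem isConn_of_charZero [CharZero K] {F : Subgroup (Pt K A)} (hF : IsCl (F : Set (Pt K A)))
    (hu : ∀ g ∈ F, IsUnip g) : IsConn (F : Set (Pt K A)) := by
  have hle : F ≤ idComp F := by
    intro u huF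
    obtain ⟨n, hn, -, hmem⟩ := Subgroup.exists_pow_mem_of_relIndex_ne_zero
      (relIndex_idComp_ne_zero hF) huF
    apply isCl_idComp
    intro a ha
    obtain ⟨q, hq⟩ := exists_poly_of_isUnip (hu u huF) a
    have h0 : ∀ j : ℕ, q.eval ((n * j : ℕ) : K) = 0 := by
      intro j
      rw [← hq, pow_mul]
      exact ha _ (pow_mem hmem j).1
    have hq0 : q = 0 := by
      apply Polynomial.eq_zero_of_infinite_isRoot
      refine Set.infinite_of_injective_forall_mem (f := fun j : ℕ => ((n * j : ℕ) : K)) ?_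
        (fun j => h0 j)
      intro i j hij
      have h1 : n * i = n * j := Nat.cast_injective hij
      exact Nat.eq_of_mul_eq_mul_left hn h1
    have h1 := hq 1
    rw [pow_one, hq0, Polynomial.eval_zero] at h1
    exact h1
  have h1 : F = idComp F := le_antisymm hle (idComp_le hF)
  rw [h1]
  exact isConn_idComp _

end Pts

open K203.Pts K203.TorsPts K203.HomPt Groth.Agent.Books.DynBasic Groth.Agent.Sga3A.MTBasis

theorem exists_centralizer (k : Type u) [Field k] [PerfectField k] (K : Type u) [Field K] [Algebra k K]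
    [IsAlgClosed K] [Algebra.IsAlgebraic k K] (A : Type u) [CommRing A] [HopfAlgebra k A] [Algebra.FiniteType k A]
    (J : Ideal A) [J.IsHopfIdeal k] (hU : HopfRep.IsUnipotent k (A ⧸ J)) [IsDomain (K ⊗[k] (A ⧸ J))]
    (Γ : Subgroup (WithConv (A →ₐ[k] K))) [Finite Γ] (hΓ : (Nat.card Γ : K) ≠ 0)
    (hGal : ∀ σ : K ≃ₐ[k] K, ∀ γ ∈ Γ, mapPt (σ : K →ₐ[k] K) γ ∈ Γ)
    (hN : ∀ γ ∈ Γ, ∀ u : WithConv (A →ₐ[k] K), (∀ a ∈ J, u.ofConv a = 0) → ∀ a ∈ J, (γ * u * γ⁻¹).ofConv a = 0) :
    ∃ (Z : Ideal A) (_ : Z.IsHopfIdeal k), J ≤ Z ∧ IsDomain (K ⊗[k] (A ⧸ Z)) ∧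
      ∀ u : WithConv (A →ₐ[k] K), (∀ a ∈ Z, u.ofConv a = 0) ↔
        ((∀ a ∈ J, u.ofConv a = 0) ∧ ∀ γ ∈ Γ, γ * u = u * γ) := by
  classical
  let φ : K ⊗[k] A →ₐc[K] K ⊗[k] (A ⧸ J) :=
    Bialgebra.TensorProduct.map (BialgHom.id K K) (Bialgebra.Quotient.mkBialgHom (R := k) J)
  have hφt : ∀ (c : K) (a : A), φ (c ⊗ₜ a) = c ⊗ₜ Ideal.Quotient.mk J a := fun _ _ => rfl
  have hφ : Function.Surjective φ := by
    intro z
    induction z with
    | zero => exact ⟨0, map_zero _⟩
    | add x y hx hy =>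
      obtain ⟨a, ha⟩ := hx
      obtain ⟨b, hb⟩ := hy
      exact ⟨a + b, by rw [map_add, ha, hb]⟩
    | tmul l b =>
      obtain ⟨a, rfl⟩ := Ideal.Quotient.mk_surjective b
      exact ⟨l ⊗ₜ a, rfl⟩
  have hresA : ∀ (g : Pt K (K ⊗[k] A)) (a : A), (res k K A K g).ofConv a = g (1 ⊗ₜ a) :=
    fun _ _ => rfl
  let U : Subgroup (Pt K (K ⊗[k] A)) := (Pt.map φ).range
  have hUmem : ∀ g : Pt K (K ⊗[k] A), g ∈ U ↔ ∀ a ∈ J, g (1 ⊗ₜ a) = 0 := by
    intro g
    constructor
    · rintro ⟨y, rfl⟩ a ha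
      rw [Pt.map_apply, hφt, Ideal.Quotient.eq_zero_iff_mem.2 ha, tmul_zero]
      exact map_zero y.ofConv
    · intro hg
      refine ⟨(res k K (A ⧸ J) K).symm (toConv (Ideal.Quotient.liftₐ J (res k K A K g).ofConv hg)), ?_⟩
      apply pt_ext
      intro b
      rw [Pt.map_apply, hφt]
      have h1 := Groth.Agent.Sga3B.Par.CochBC.res_symm_apply
        (toConv (Ideal.Quotient.liftₐ J (res k K A K g).ofConv hg)) (1 : K) (Ideal.Quotient.mk J b)
      rw [map_one, one_mul] at h1
      exact h1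
  have hUcl : IsCl (U : Set (Pt K (K ⊗[k] A))) := by
    intro g hg
    apply (hUmem g).2
    intro a ha
    exact hg _ (fun h hh => (hUmem h).1 hh a ha)
  have hUconn : IsConn (U : Set (Pt K (K ⊗[k] A))) := by
    have h1 : (U : Set (Pt K (K ⊗[k] A))) = Pt.map φ '' Set.univ := by
      rw [Set.image_univ]
      exact MonoidHom.coe_range _
    rw [h1]
    exact isConn_univ.image_reg (isReg_map φ)
  have hUD : ∀ g : Pt K (K ⊗[k] (A ⧸ J)), IsUnip g :=
    fun g => Groth.Agent.Sga3.H814.CentralK.isUnip_of_isUnipotent hU g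
  have hUu : ∀ g ∈ U, IsUnip g := by
    rintro _ ⟨y, rfl⟩
    exact Groth.Agent.Sga3B.RG.BrRed.isUnip_map φ (hUD y)
  let Γ' : Subgroup (Pt K (K ⊗[k] A)) := Γ.comap (res k K A K).toMonoidHom
  have hΓ' : ∀ g : Pt K (K ⊗[k] A), g ∈ Γ' ↔ res k K A K g ∈ Γ := fun _ => Iff.rfl
  let e : Γ' ≃ Γ := (res k K A K).toEquiv.subtypeEquiv (fun g => hΓ' g)
  have hfin : Finite Γ' := Finite.of_equiv Γ e.symm
  have hcard : Nat.card Γ' = Nat.card Γ := Nat.card_congr e
  have hNU : ∀ γ ∈ Γ', ∀ u ∈ U, γ * u * γ⁻¹ ∈ U := by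
    intro γ hγ u hu
    apply (hUmem _).2
    intro a ha
    have h1 := hN (res k K A K γ) hγ (res k K A K u) ((hUmem u).1 hu) a ha
    rw [← map_inv, ← map_mul, ← map_mul] at h1
    exact h1
  have hFcl : IsCl (cen U Γ' : Set (Pt K (K ⊗[k] A))) := isCl_cen hUcl
  have hFconn : IsConn (cen U Γ' : Set (Pt K (K ⊗[k] A))) := by
    have hft : Algebra.FiniteType k (A ⧸ J) :=
      Algebra.FiniteType.of_surjective (Ideal.Quotient.mkₐ k J) Ideal.Quotient.mk_surjective
    obtain ⟨p, hp⟩ := CharP.exists K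
    rcases CharP.char_is_prime_or_zero K p with hpp | rfl
    · have : Fact p.Prime := ⟨hpp⟩
      have hnil : Group.IsNilpotent (Pt K (K ⊗[k] (A ⧸ J))) := by
        have h1 : Group.IsNilpotent (⊤ : Subgroup (Pt K (K ⊗[k] (A ⧸ J)))) :=
          Groth.Agent.Agf.H611.NilPts.isNilpotent_of_isUnip fun g _ => hUD g
        exact Group.nilpotent_of_mulEquiv Subgroup.topEquiv
      have hnU : Group.IsNilpotent U :=
        Group.nilpotent_of_surjective (Pt.map φ).rangeRestrict (Pt.map φ).rangeRestrict_surjective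
      obtain ⟨m, hm⟩ := Groth.Agent.Sga3.H814.CentralV.exists_pow_char_eq_one
        (K := K) (A := K ⊗[k] (A ⧸ J)) p
      refine isConn_cen_of_exponent hUconn (p ^ m) ?_ ?_ hNU
      · rintro _ ⟨y, rfl⟩
        rw [← map_pow, hm y (hUD y), map_one]
      · apply Nat.Coprime.pow_right
        rw [hcard, Nat.coprime_comm, hpp.coprime_iff_not_dvd]
        intro h
        exact hΓ ((CharP.cast_eq_zero_iff K p _).2 h)
    · have : CharZero K := CharP.charP_to_charZero K
      exact isConn_of_charZero hFcl (fun g hg => hUu g (mem_cen.1 hg).1)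
  have hgalU : ∀ (σ : K ≃ₐ[k] K), ∀ g ∈ U, gal σ g ∈ U := by
    intro σ g hg
    apply (hUmem _).2
    intro a ha
    rw [gal_one_tmul, (hUmem g).1 hg a ha, map_zero]
  have hgalΓ : ∀ (σ : K ≃ₐ[k] K), ∀ g ∈ Γ', gal σ g ∈ Γ' := by
    intro σ g hg
    have h1 := hGal σ _ hg
    have h2 : res k K A K (gal σ g) = mapPt (σ : K →ₐ[k] K) (res k K A K g) := by
      apply WithConv.ofConv_injective
      apply AlgHom.ext
      intro a
      exact gal_one_tmul σ g a
    rw [hΓ', h2]
    exact h1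
  have hst : ∀ (σ : K ≃ₐ[k] K), ∀ g ∈ cen U Γ', gal σ g ∈ cen U Γ' := by
    intro σ g hg
    have hg' := mem_cen.1 hg
    refine mem_cen.2 ⟨hgalU σ g hg'.1, fun γ hγ => ?_⟩
    have h1 := congrArg (gal σ) (hg'.2 _ (hgalΓ σ.symm γ hγ))
    rwa [map_mul, map_mul, gal_gal_symm] at h1
  have hZ := map_comap_vanIdeal (fun c h => mem_range_of_fixed k K c h)
    (S := (cen U Γ' : Set (Pt K (K ⊗[k] A)))) hst
  set Z := (vanIdeal (cen U Γ' : Set (Pt K (K ⊗[k] A)))).comap
    (Algebra.TensorProduct.includeRight : A →ₐ[k] K ⊗[k] A) with hZdef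
  have h1 : (Z.map (Algebra.TensorProduct.includeRight : A →ₐ[k] K ⊗[k] A)).IsHopfIdeal K := by
    rw [hZ]
    infer_instance
  have hmem : ∀ g : Pt K (K ⊗[k] A), (∀ a ∈ Z, g (1 ⊗ₜ a) = 0) ↔ g ∈ cen U Γ' := by
    intro g
    constructor
    · intro hg
      apply hFcl
      intro a ha
      rw [← hZ] at ha
      have h2 : Z.map (Algebra.TensorProduct.includeRight : A →ₐ[k] K ⊗[k] A) ≤
          RingHom.ker g.ofConv := by
        rw [Ideal.map_le_iff_le_comap]
        exact fun b hb => hg b hb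
      exact h2 ha
    · intro hg a ha
      exact ha g hg
  refine ⟨Z, isHopfIdeal_of_map Z h1, ?_, ?_, ?_⟩
  · intro a ha g hg
    exact (hUmem g).1 (mem_cen.1 hg).1 a ha
  · apply Groth.Agent.Sga3.H814.CentralK.isDomain_quot
    rw [hZ]
    exact hFconn
  · intro u
    have h2 := hmem ((res k K A K).symm u)
    have h3 : ∀ a : A, ((res k K A K).symm u) (1 ⊗ₜ a) = u.ofConv a := by
      intro a
      have h4 := Groth.Agent.Sga3B.Par.CochBC.res_symm_apply u (1 : K) a
      rw [map_one, one_mul] at h4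
      exact h4
    simp only [h3] at h2
    rw [h2, mem_cen, hUmem]
    simp only [h3]
    refine and_congr Iff.rfl ?_
    constructor
    · intro h γ hγ
      have h4 := h ((res k K A K).symm γ) (by rw [hΓ', MulEquiv.apply_symm_apply]; exact hγ)
      rw [← map_mul, ← map_mul] at h4
      exact (res k K A K).symm.injective h4
    · intro h γ hγ
      apply (res k K A K).injective
      rw [map_mul, map_mul, MulEquiv.apply_symm_apply]
      exact h _ hγ

end K291.CentFin
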