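import Mathlib.GroupTheory.Nilpotent
import Mathlib.Algebra.BigOperators.Group.Finset.Basic
import Mathlib.GroupTheory.Subgroup.Center
import Mathlib.Data.Nat.ModEq

/-!
# A word retraction onto the fixed points of a finite group acting on a nilpotent group

`P` a nilpotent group of finite exponent `q`, `Γ` a finite group of order prime to `q` acting on `P`.  The map
`x ↦ x * (∏ γ, x⁻¹ * γ x) ^ m` (`m` an inverse of the order of `Γ` modulo `q`), iterated often enough, is a retraction
of `P` onto the fixed points.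
-/

set_option autoImplicit false

open scoped IsMulCommutative commutatorElement

namespace K291.WordRetr

variable {P : Type*} [Group P] {Γ : Type*} [Fintype Γ]

/-- One step. -/
noncomputable def step (α : Γ → P → P) (m : ℕ) (x : P) : P :=
  x * ((Finset.univ.toList.map (fun γ : Γ => x⁻¹ * α γ x)).prod) ^ m

lemma step_of_fixed (α : Γ → P → P) (m : ℕ) {x : P} (h : ∀ γ, α γ x = x) : step α m x = x := by
  rw [step]
  have h1 : (Finset.univ.toList.map (fun γ : Γ => x⁻¹ * α γ x)).prod = 1 := by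
    apply List.prod_eq_one
    intro y hy
    obtain ⟨γ, -, rfl⟩ := List.mem_map.1 hy
    rw [h, inv_mul_cancel]
  rw [h1, one_pow, mul_one]

lemma iterate_of_fixed (α : Γ → P → P) (m c : ℕ) {x : P} (h : ∀ γ, α γ x = x) :
    (step α m)^[c] x = x := by
  induction c with
  | zero => rfl
  | succ c ih => rw [Function.iterate_succ_apply, step_of_fixed α m h, ih]

/-- **The key step.** -/
lemma step_mem [Group Γ] (α : Γ →* MulAut P) (m q : ℕ) (hq : ∀ x : P, x ^ q = 1)
    (hm : Fintype.card Γ * m ≡ 1 [MOD q]) (L N : Subgroup P) [N.Normal]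
    (hLN : ∀ x ∈ L, ∀ y : P, y * x * y⁻¹ * x⁻¹ ∈ N)
    {x : P} (hx : ∀ γ, x⁻¹ * α γ x ∈ L) (γ : Γ) :
    (step (fun γ => α γ) m x)⁻¹ * α γ (step (fun γ => α γ) m x) ∈ N := by
  classical
  let π : P →* P ⧸ N := QuotientGroup.mk' N
  have hπ : ∀ y, π y = QuotientGroup.mk' N y := fun _ => rfl
  let c : Γ → P := fun γ => x⁻¹ * α γ x
  have hcoc : ∀ γ δ, α γ (c δ) = (c γ)⁻¹ * c (γ * δ) := by
    intro γ δ
    simp only [c, map_mul, map_inv, MulAut.mul_apply]
    group
  have hcen : ∀ y ∈ L, π y ∈ Subgroup.center (P ⧸ N) := by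
    intro y hy
    rw [Subgroup.mem_center_iff]
    intro z
    obtain ⟨z, rfl⟩ := QuotientGroup.mk'_surjective N z
    have h1 : π (z * y * z⁻¹ * y⁻¹) = 1 := (QuotientGroup.eq_one_iff _).2 (hLN y hy z)
    rw [map_mul, map_mul, map_mul, map_inv, map_inv] at h1
    have h2 := mul_inv_eq_one.1 h1
    exact (mul_inv_eq_iff_eq_mul.1 h2)
  let z : Γ → Subgroup.center (P ⧸ N) := fun γ => ⟨π (c γ), hcen _ (hx γ)⟩
  have hz : ∀ γ, ((z γ : Subgroup.center (P ⧸ N)) : P ⧸ N) = π (c γ) := fun _ => rfl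
  have hlist : ∀ (f : Γ → P) (g : Γ → Subgroup.center (P ⧸ N)), (∀ δ, π (f δ) = (g δ : P ⧸ N)) →
      π ((Finset.univ.toList.map f).prod) = ((∏ δ, g δ : Subgroup.center (P ⧸ N)) : P ⧸ N) := by
    intro f g hfg
    have h1 : ((∏ δ, g δ : Subgroup.center (P ⧸ N)) : P ⧸ N) =
        (Subgroup.center (P ⧸ N)).subtype (∏ δ, g δ) := rfl
    rw [h1, ← Finset.prod_map_toList, map_list_prod, map_list_prod, List.map_map, List.map_map]
    congr 1
    apply List.map_congr_left
    intro δ _
    exact hfg δ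
  set t : Subgroup.center (P ⧸ N) := ∏ δ, z δ with ht
  have h1 : π (step (fun γ => α γ) m x) = π x * (t : P ⧸ N) ^ m := by
    rw [step, map_mul, map_pow, hlist _ z (fun _ => rfl)]
  have h2 : π (α γ (step (fun γ => α γ) m x)) = π x * (t : P ⧸ N) ^ m := by
    rw [step, map_mul, map_pow, map_list_prod, List.map_map, map_mul, map_pow]
    have h3 := hlist (α γ ∘ fun γ : Γ => x⁻¹ * α γ x) (fun δ => (z γ)⁻¹ * z (γ * δ)) (by
      intro δ
      change π (α γ (c δ)) = _
      rw [hcoc, map_mul, map_inv]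
      rfl)
    rw [h3]
    have h4 : (∏ δ, (z γ)⁻¹ * z (γ * δ)) = (z γ)⁻¹ ^ Fintype.card Γ * t := by
      rw [Finset.prod_mul_distrib, Finset.prod_const, Finset.card_univ]
      congr 1
      exact Fintype.prod_equiv (Equiv.mulLeft γ) _ _ (fun _ => rfl)
    rw [h4]
    have h5 : α γ x = x * c γ := by simp only [c]; group
    have h6 : π (α γ x) = π x * (z γ : P ⧸ N) := by rw [h5, map_mul]
    rw [h6]
    have h7 : z γ ^ (Fintype.card Γ * m) = z γ := by
      have h8 : z γ ^ q = 1 := by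
        apply Subtype.ext
        rw [SubmonoidClass.coe_pow, hz, ← map_pow, hq, map_one]
        rfl
      have h9 : orderOf (z γ) ∣ q := orderOf_dvd_of_pow_eq_one h8
      have h10 := (pow_eq_pow_iff_modEq (x := z γ)).2 (hm.of_dvd h9)
      rw [h10, pow_one]
    have h8 : z γ * ((z γ)⁻¹ ^ Fintype.card Γ * t) ^ m = t ^ m := by
      rw [mul_pow, ← pow_mul, inv_pow, h7, mul_inv_cancel_left]
    have h9 := congrArg (Subtype.val) h8
    rw [mul_assoc]
    congr 1
  have h3 : π ((step (fun γ => α γ) m x)⁻¹ * α γ (step (fun γ => α γ) m x)) = 1 := by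
    rw [map_mul, map_inv, h1, h2, inv_mul_cancel]
  exact (QuotientGroup.eq_one_iff _).1 h3

/-- **The retraction.** -/
theorem exists_iterate [Group Γ] [Group.IsNilpotent P] (α : Γ →* MulAut P) (m q : ℕ) (hq : ∀ x : P, x ^ q = 1)
    (hm : Fintype.card Γ * m ≡ 1 [MOD q]) :
    ∃ c : ℕ, ∀ x γ, α γ ((step (fun γ => α γ) m)^[c] x) = (step (fun γ => α γ) m)^[c] x := by
  obtain ⟨c, hc⟩ := Subgroup.nilpotent_iff_lowerCentralSeries.1 (inferInstance : Group.IsNilpotent P)
  refine ⟨c, fun x γ => ?_⟩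
  have key : ∀ (i : ℕ) (γ : Γ), ((step (fun γ => α γ) m)^[i] x)⁻¹ *
      α γ ((step (fun γ => α γ) m)^[i] x) ∈ (⊤ : Subgroup P).lowerCentralSeries i := by
    intro i
    induction i with
    | zero => intro γ; exact Subgroup.mem_top _
    | succ i ih =>
      intro γ
      rw [Function.iterate_succ_apply']
      refine step_mem α m q hq hm ((⊤ : Subgroup P).lowerCentralSeries i) _ ?_ ih γ
      intro x hx y
      have h1 : ⁅x, y⁆ ∈ (⊤ : Subgroup P).lowerCentralSeries (i + 1) :=
        Subgroup.commutator_mem_commutator hx (Subgroup.mem_top y)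
      have h2 := inv_mem h1
      rwa [commutatorElement_inv, commutatorElement_def] at h2
  have h1 := key c γ
  rw [hc, Subgroup.mem_bot, inv_mul_eq_one] at h1
  exact h1.symm

end K291.WordRetr
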